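import Cfsg.Prelude.Def_Local
import Cfsg.Agent.S0111
import Cfsg.Agent.PGroup.Basic
import Cfsg.Agent.Invol.FourGroup
import Mathlib.GroupTheory.SpecificGroups.KleinFour
import Mathlib.GroupTheory.SpecificGroups.Cyclic
import Mathlib.GroupTheory.Sylow

/-!
A four-group `U` acting on a group `A` without subgroups of index two, all of whose fixed point
groups have 2-rank at most one, forces 2-rank at most one on `A`.
-/

set_option autoImplicit false
set_option linter.unusedSectionVars false
set_option linter.style.haveILetI false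

open Cfsg

namespace Cfsg.Agent.FourAct

open Subgroup

universe u

variable {G : Type u} [Group G] [Finite G]

/-- The hypotheses: `U` is a four-group normalizing `A`, no centralizer of an involution of `U`
contains a four-group of `A`, and `A` has no subgroup of index two. -/
structure Hyp (A : Subgroup G) (U : Subgroup G) : Prop where
  norm : ∀ u ∈ U, ∀ x, x ∈ A → u * x * u⁻¹ ∈ A
  uu : ∀ u ∈ U, u * u = 1
  card : Nat.card U = 4
  no_four : ∀ u ∈ U, u ≠ 1 → ∀ e ∈ A, ∀ f ∈ A, u * e = e * u → u * f = f * u → e * f = f * e →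
    e * e = 1 → f * f = 1 → e ≠ 1 → f ≠ 1 → e = f
  no_two : ∀ M : Subgroup A, M.index ≠ 2

theorem inv_eq {x : G} (h : x * x = 1) : x⁻¹ = x := inv_eq_of_mul_eq_one_left h

theorem isPGroup_pow {x : G} {k : ℕ} (h : x ^ (2 ^ k) = 1) : IsPGroup 2 (zpowers x) := by
  intro y
  refine ⟨k, Subtype.ext ?_⟩
  obtain ⟨m, hm⟩ := mem_zpowers_iff.1 y.2
  rw [coe_pow, coe_one, ← hm, ← zpow_natCast, ← zpow_mul, mul_comm, zpow_mul, zpow_natCast, h,
    one_zpow]

/-- An abelian 2-group with at most one involution is cyclic. -/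
theorem isCyclic_of_unique {C : Subgroup G} [IsMulCommutative C] (hC : IsPGroup 2 C)
    (hu : ∀ x y : C, x * x = 1 → y * y = 1 → x ≠ 1 → y ≠ 1 → x = y) : IsCyclic C := by
  by_cases hex : ∃ z : C, orderOf z = 2
  · obtain ⟨z, hz⟩ := hex
    have h2 : ∀ a : C, orderOf a = 2 → a * a = 1 ∧ a ≠ 1 := fun a ha =>
      ⟨by rw [← pow_two, ← ha, pow_orderOf_eq_one], fun e => by rw [e, orderOf_one] at ha; omega⟩
    have h := Invol.isCyclic_of_unique_involution hC (⊤ : Subgroup C)
      ⟨⟨fun a b => Subtype.ext (Std.Commutative.comm (op := (· * ·)) a.1 b.1)⟩⟩ z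
      (fun a _ ha => hu a z (h2 a ha).1 (h2 z hz).1 (h2 a ha).2 (h2 z hz).2)
    exact topEquiv.isCyclic.1 h
  · haveI : Subsingleton C := ⟨fun a b => by
      have : ∀ c : C, c = 1 := fun c => by
        obtain ⟨m, hm⟩ := IsPGroup.iff_orderOf.1 hC c
        by_contra hc
        have hm1 : m ≠ 0 := fun e => hc (by rw [e, pow_zero, orderOf_eq_one_iff] at hm; exact hm)
        refine hex ⟨c ^ 2 ^ (m - 1), ?_⟩
        rw [orderOf_pow' c (by positivity), hm, Nat.gcd_eq_right (pow_dvd_pow 2 (by omega)),
          Nat.pow_div (by omega) (by norm_num), show m - (m - 1) = 1 by omega, pow_one]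
      rw [this a, this b]⟩
    infer_instance

namespace Hyp

variable {A U : Subgroup G} (h : Hyp A U)
include h

theorem exists_pair : ∃ u v : G, u ∈ U ∧ v ∈ U ∧ u ≠ 1 ∧ v ≠ 1 ∧ u * v ≠ 1 := by
  classical
  haveI : Fintype U := Fintype.ofFinite U
  obtain ⟨u, hu⟩ : ∃ u : U, u ≠ 1 := by
    by_contra hc; push Not at hc
    haveI : Subsingleton U := ⟨fun a b => (hc a).trans (hc b).symm⟩
    have := h.card; rw [Nat.card_unique] at this; omega
  obtain ⟨v, hv⟩ : ∃ v : U, v ∉ ({1, u} : Finset U) := by
    by_contra hc; push Not at hc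
    have : Fintype.card U ≤ ({1, u} : Finset U).card :=
      Finset.card_le_card (fun x _ => hc x)
    have h4 := h.card; rw [Nat.card_eq_fintype_card] at h4
    have := Finset.card_le_two (a := (1 : U)) (b := u)
    omega
  simp only [Finset.mem_insert, Finset.mem_singleton, not_or] at hv
  refine ⟨u, v, u.2, v.2, fun e => hu (Subtype.ext e), fun e => hv.1 (Subtype.ext e), fun e => hv.2 ?_⟩
  apply Subtype.ext
  calc (v : G) = (u : G) * ((u : G) * v) := by rw [← mul_assoc, h.uu _ u.2, one_mul]
    _ = u := by rw [e, mul_one]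

/-- An involution `j` fixed by `U` has no commuting partner `e` commuting with all its
`U`-conjugates. -/
theorem no_pair {j e : G} (hjA : j ∈ A) (heA : e ∈ A) (hjj : j * j = 1) (hee : e * e = 1)
    (hj : j ≠ 1) (he : e ≠ 1) (hne : e ≠ j) (hfix : ∀ u ∈ U, u * j * u⁻¹ = j)
    (hje : j * e = e * j) (hconj : ∀ u ∈ U, e * (u * e * u⁻¹) = (u * e * u⁻¹) * e) : False := by
  have hcj : ∀ u ∈ U, u * j = j * u := fun u hu => mul_inv_eq_iff_eq_mul.1 (hfix u hu)
  have key : ∀ u ∈ U, u ≠ 1 → u * e * u⁻¹ = e * j := fun u hu hu1 => by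
    have huu := h.uu u hu
    set f := u * e * u⁻¹ with hf
    have hff : f * f = 1 := by
      rw [hf]; calc u * e * u⁻¹ * (u * e * u⁻¹) = u * (e * e) * u⁻¹ := by group
        _ = 1 := by rw [hee, mul_one, mul_inv_cancel]
    have hfu : u * f * u⁻¹ = e := by
      rw [hf]; calc u * (u * e * u⁻¹) * u⁻¹ = (u * u) * e * (u * u)⁻¹ := by group
        _ = e := by rw [huu, one_mul, inv_one, mul_one]
    set p := e * f with hp
    have hpu : u * p = p * u := by
      refine mul_inv_eq_iff_eq_mul.1 ?_
      calc u * p * u⁻¹ = (u * e * u⁻¹) * (u * f * u⁻¹) := by rw [hp]; group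
        _ = f * e := by rw [← hf, hfu]
        _ = p := (hconj u hu).symm
    have hpp : p * p = 1 := by
      calc p * p = e * (f * e) * f := by rw [hp]; group
        _ = e * (e * f) * f := by rw [show f * e = e * f from (hconj u hu).symm]
        _ = (e * e) * (f * f) := by group
        _ = 1 := by rw [hee, hff, one_mul]
    have hjf : j * f = f * j := by
      have h1 : j * f = u * (j * e) * u⁻¹ := by
        rw [hf]; calc j * (u * e * u⁻¹) = (j * u) * e * u⁻¹ := by group
          _ = u * (j * e) * u⁻¹ := by rw [← hcj u hu]; group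
      have h2 : f * j = u * (e * j) * u⁻¹ := by
        rw [hf]; calc u * e * u⁻¹ * j = u * e * (u⁻¹ * j * u) * u⁻¹ := by group
          _ = u * (e * j) * u⁻¹ := by
            rw [show u⁻¹ * j * u = j by rw [mul_assoc, ← hcj u hu, inv_mul_cancel_left]]; group
      rw [h1, h2, hje]
    have hjp : j * p = p * j := by
      show j * (e * f) = e * f * j
      rw [← mul_assoc j e f, hje, mul_assoc e j f, hjf, ← mul_assoc e f j]
    have hpA : p ∈ A := mul_mem heA (h.norm u hu _ heA)
    by_cases hp1 : p = 1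
    · exfalso
      have hfe : f = e := by
        calc f = e * (e * f) := by rw [← mul_assoc, hee, one_mul]
          _ = e := by rw [← hp, hp1, mul_one]
      exact hne (h.no_four u hu hu1 e heA j hjA (mul_inv_eq_iff_eq_mul.1 hfe) (hcj u hu) hje.symm
        hee hjj he hj)
    · have := h.no_four u hu hu1 p hpA j hjA hpu (hcj u hu) hjp.symm hpp hjj hp1 hj
      calc f = e * (e * f) := by rw [← mul_assoc, hee, one_mul]
        _ = e * j := by rw [← hp, this]
  obtain ⟨u, v, hu, hv, hu1, hv1, huv⟩ := h.exists_pair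
  have h3 := key (u * v) (mul_mem hu hv) huv
  have : u * v * e * (u * v)⁻¹ = e := by
    calc u * v * e * (u * v)⁻¹ = u * (v * e * v⁻¹) * u⁻¹ := by group
      _ = (u * e * u⁻¹) * (u * j * u⁻¹) := by rw [key v hv hv1]; group
      _ = e := by rw [key u hu hu1, hfix u hu, mul_assoc, hjj, mul_one]
  exact hj (mul_eq_left.1 (h3.symm.trans this))

end Hyp

end Cfsg.Agent.FourAct
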