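import Cfsg.Agent.FourAct.Basic

/-!
The rank-one conclusion.
-/

set_option autoImplicit false
set_option linter.unusedSectionVars false
set_option linter.style.haveILetI false

open Cfsg

namespace Cfsg.Agent.FourAct

open Subgroup
open scoped Pointwise

universe u

variable {G : Type u} [Group G] [Finite G]

/-- A `2`-subgroup `S` with a cyclic self-centralizing normal subgroup `C`. -/
structure Conf (A U S C : Subgroup G) (i : G) : Prop where
  hyp : Hyp A U
  S_le : S ≤ A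
  S_two : IsPGroup 2 S
  S_max : ∀ P : Subgroup G, P ≤ A → IsPGroup 2 P → ∃ a ∈ A, ∀ x ∈ P, a * x * a⁻¹ ∈ S
  S_norm : ∀ u ∈ U, ∀ s ∈ S, u * s * u⁻¹ ∈ S
  C_le : C ≤ S
  C_cyc : IsCyclic C
  C_norm : ∀ g ∈ S, ∀ c ∈ C, g * c * g⁻¹ ∈ C
  C_normU : ∀ g ∈ U, ∀ c ∈ C, g * c * g⁻¹ ∈ C
  self : ∀ s ∈ S, (∀ c ∈ C, s * c = c * s) → s ∈ C
  i_mem : i ∈ C
  i_four : i ^ 4 = 1
  i_sq : i * i ≠ 1

theorem comm_conj {C : Subgroup G} (hC : IsCyclic C) {g k : G} (hg : ∀ c ∈ C, g * c * g⁻¹ ∈ C)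
    (hk : ∀ c ∈ C, k * c * k⁻¹ ∈ C) {c : G} (hc : c ∈ C) :
    g * (k * c * k⁻¹) * g⁻¹ = k * (g * c * g⁻¹) * k⁻¹ := by
  obtain ⟨c0, hc0⟩ := hC.exists_generator
  obtain ⟨a, ha⟩ := mem_zpowers_iff.1 (hc0 ⟨_, hg _ c0.2⟩)
  obtain ⟨b, hb⟩ := mem_zpowers_iff.1 (hc0 ⟨_, hk _ c0.2⟩)
  obtain ⟨m, hm⟩ := mem_zpowers_iff.1 (hc0 ⟨c, hc⟩)
  have ha' : g * (c0 : G) * g⁻¹ = (c0 : G) ^ a := (congrArg Subtype.val ha).symm.trans (by simp)
  have hb' : k * (c0 : G) * k⁻¹ = (c0 : G) ^ b := (congrArg Subtype.val hb).symm.trans (by simp)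
  have hm' : c = (c0 : G) ^ m := (congrArg Subtype.val hm).symm.trans (by simp)
  have hga : ∀ t : ℤ, g * (c0 : G) ^ t * g⁻¹ = (c0 : G) ^ (a * t) := fun t => by
    rw [← MulAut.conj_apply, map_zpow, MulAut.conj_apply, ha', zpow_mul]
  have hkb : ∀ t : ℤ, k * (c0 : G) ^ t * k⁻¹ = (c0 : G) ^ (b * t) := fun t => by
    rw [← MulAut.conj_apply, map_zpow, MulAut.conj_apply, hb', zpow_mul]
  rw [hm', hkb, hga, hga, hkb, ← mul_left_comm]

theorem four_mul (x : G) : x ^ 4 = x * x * (x * x) := by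
  rw [show (4 : ℕ) = 2 + 2 by rfl, pow_add, pow_two]

namespace Conf

variable {A U S C : Subgroup G} {i : G} (d : Conf A U S C i)
include d

theorem jj : (i * i) * (i * i) = 1 := by
  rw [← four_mul, d.i_four]

theorem i_inv_sq : i⁻¹ * i⁻¹ = i * i := by
  rw [← mul_inv_rev]; exact inv_eq d.jj

theorem root_cases {n : ℕ} (hn : 0 < n) (l : Finset G) (hl : ∀ x ∈ l, x ∈ C ∧ x ^ n = 1) :
    l.card ≤ n := by
  classical
  haveI := d.C_cyc
  haveI : Fintype C := Fintype.ofFinite C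
  refine le_trans ?_ (IsCyclic.card_pow_eq_one_le (α := C) hn)
  refine Finset.card_le_card_of_injOn (fun x => if hx : x ∈ C then (⟨x, hx⟩ : C) else 1) ?_ ?_
  · intro x hx
    simp only [Finset.coe_filter, Finset.mem_univ, true_and, Set.mem_setOf_eq]
    rw [dif_pos (hl x hx).1]
    exact Subtype.ext (by simpa using (hl x hx).2)
  · intro x hx y hy e
    simp only [dif_pos (hl x hx).1, dif_pos (hl y hy).1] at e
    exact congrArg Subtype.val e

theorem sq_one {x : G} (hx : x ∈ C) (hxx : x * x = 1) : x = 1 ∨ x = i * i := by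
  classical
  by_contra hc; push Not at hc
  have := d.root_cases (n := 2) (by norm_num) {1, i * i, x} (by
    intro y hy
    simp only [Finset.mem_insert, Finset.mem_singleton] at hy
    rcases hy with rfl | rfl | rfl
    · exact ⟨one_mem _, one_pow _⟩
    · exact ⟨mul_mem d.i_mem d.i_mem, by rw [pow_two]; exact d.jj⟩
    · exact ⟨hx, by rw [pow_two]; exact hxx⟩)
  rw [Finset.card_insert_of_notMem (by simp [d.i_sq.symm, hc.1.symm]),
    Finset.card_insert_of_notMem (by simp [hc.2.symm]), Finset.card_singleton] at this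
  omega

theorem four_cases {x : G} (hx : x ∈ C) (h4 : x ^ 4 = 1) (h2 : x * x ≠ 1) : x = i ∨ x = i⁻¹ := by
  classical
  have hj : x * x = i * i :=
    (d.sq_one (mul_mem hx hx) (by rw [← four_mul, h4])).resolve_left h2
  have hc : (x * i⁻¹) * (x * i⁻¹) = 1 := by
    have hcom : i⁻¹ * x = x * i⁻¹ := by
      haveI := d.C_cyc
      have := (IsCyclic.commGroup (α := C)).mul_comm ⟨i⁻¹, inv_mem d.i_mem⟩ ⟨x, hx⟩
      exact congrArg Subtype.val this
    calc (x * i⁻¹) * (x * i⁻¹) = x * (i⁻¹ * x) * i⁻¹ := by group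
      _ = (x * x) * (i⁻¹ * i⁻¹) := by rw [hcom]; group
      _ = 1 := by rw [hj, d.i_inv_sq, d.jj]
  rcases d.sq_one (mul_mem hx (inv_mem d.i_mem)) hc with h | h
  · exact Or.inl (mul_inv_eq_one.1 h)
  · refine Or.inr ?_
    calc x = (x * i⁻¹) * i := by group
      _ = i * i * i := by rw [h]
      _ = i⁻¹ * (i * i * (i * i)) := by group
      _ = i⁻¹ * i ^ 4 := by rw [← four_mul]
      _ = i⁻¹ := by rw [d.i_four, mul_one]

theorem conj_i {g : G} (hg : ∀ c ∈ C, g * c * g⁻¹ ∈ C) : g * i * g⁻¹ = i ∨ g * i * g⁻¹ = i⁻¹ := by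
  refine d.four_cases (hg i d.i_mem) ?_ ?_
  · rw [← MulAut.conj_apply, ← map_pow, d.i_four, map_one]
  · intro e
    refine d.i_sq ?_
    calc i * i = g⁻¹ * ((g * i * g⁻¹) * (g * i * g⁻¹)) * g := by group
      _ = 1 := by rw [e, mul_one, inv_mul_cancel]

theorem conj_j {g : G} (hg : ∀ c ∈ C, g * c * g⁻¹ ∈ C) : g * (i * i) * g⁻¹ = i * i := by
  rw [show g * (i * i) * g⁻¹ = (g * i * g⁻¹) * (g * i * g⁻¹) by group]
  rcases d.conj_i hg with e | e <;> rw [e]
  exact d.i_inv_sq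

theorem inverted {g x : G} (hgi : g * i = i * g) (hx : x ∈ C) (hgx : g * x * g⁻¹ = x⁻¹) :
    x * x = 1 := by
  by_contra hxx
  obtain ⟨m, hm⟩ := IsPGroup.iff_orderOf.1 d.S_two ⟨x, d.C_le hx⟩
  rw [Subgroup.orderOf_mk] at hm
  have hm2 : 2 ≤ m := by
    by_contra hlt
    apply hxx
    rw [← pow_two, ← orderOf_dvd_iff_pow_eq_one, hm]
    exact (pow_dvd_pow 2 (by omega : m ≤ 1)).trans (by simp)
  set k := 2 ^ (m - 2) with hk
  have h4 : (x ^ k) ^ 4 = 1 := by
    rw [← pow_mul, ← orderOf_dvd_iff_pow_eq_one, hm, hk, show (4 : ℕ) = 2 ^ 2 by norm_num, ← pow_add]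
    exact pow_dvd_pow 2 (by omega)
  have h2 : x ^ k * x ^ k ≠ 1 := by
    rw [← pow_add, Ne, ← orderOf_dvd_iff_pow_eq_one, hm, hk, ← two_mul, ← pow_succ', Nat.pow_dvd_pow_iff_le_right (by norm_num)]
    omega
  have hgk : g * x ^ k * g⁻¹ = (x ^ k)⁻¹ := by
    rw [← MulAut.conj_apply, map_pow, MulAut.conj_apply, hgx, inv_pow]
  have hgi' : g * i * g⁻¹ = i := mul_inv_eq_iff_eq_mul.2 hgi
  have : i = i⁻¹ := by
    rcases d.four_cases (pow_mem hx k) h4 h2 with e | e <;> rw [e] at hgk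
    · exact hgi'.symm.trans hgk
    · rw [inv_inv, show g * i⁻¹ * g⁻¹ = (g * i * g⁻¹)⁻¹ by group, hgi'] at hgk
      exact hgk.symm
  exact d.i_sq (by nth_rw 1 [this]; rw [inv_mul_cancel])

theorem j_ne : i * i ≠ 1 := d.i_sq

theorem j_mem : i * i ∈ C := mul_mem d.i_mem d.i_mem

theorem j_comm {s : G} (hs : s ∈ S) : s * (i * i) = (i * i) * s :=
  mul_inv_eq_iff_eq_mul.1 (d.conj_j (d.C_norm s hs))

/-- An involution of `S` commuting with `i` lies in `C`. -/
theorem mem_C_of_invol {y : G} (hy : y ∈ S) (hyy : y * y = 1) (hyi : y * i = i * y) : y ∈ C := by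
  by_contra hyC
  refine d.hyp.no_pair (d.S_le (d.C_le d.j_mem)) (d.S_le hy) d.jj hyy d.j_ne
    (fun e => hyC (e ▸ one_mem _)) (fun e => hyC (e ▸ d.j_mem))
    (fun u hu => d.conj_j (d.C_normU u hu)) (d.j_comm hy).symm ?_
  intro u hu
  set y' := u * y * u⁻¹ with hy'
  have hy'S : y' ∈ S := d.S_norm u hu y hy
  have hy'y' : y' * y' = 1 := by
    rw [hy']; calc u * y * u⁻¹ * (u * y * u⁻¹) = u * (y * y) * u⁻¹ := by group
      _ = 1 := by rw [hyy, mul_one, mul_inv_cancel]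
  have hzC : y * y' ∈ C := by
    refine d.self _ (mul_mem hy hy'S) fun c hc => ?_
    refine mul_inv_eq_iff_eq_mul.1 ?_
    have hu' : ∀ c ∈ C, u⁻¹ * c * u⁻¹⁻¹ ∈ C := fun c hc => by
      rw [inv_eq (d.hyp.uu u hu)]; exact d.C_normU u hu c hc
    have hc' : y * c * y⁻¹ ∈ C := d.C_norm y hy c hc
    have h1 : y' * c * y'⁻¹ = y * c * y⁻¹ := by
      have := comm_conj d.C_cyc (d.C_norm y hy) hu' hc
      calc y' * c * y'⁻¹ = u * (y * (u⁻¹ * c * u⁻¹⁻¹) * y⁻¹) * u⁻¹ := by rw [hy']; group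
        _ = u * (u⁻¹ * (y * c * y⁻¹) * u⁻¹⁻¹) * u⁻¹ := by rw [this]
        _ = y * c * y⁻¹ := by group
    calc y * y' * c * (y * y')⁻¹ = y * (y' * c * y'⁻¹) * y⁻¹ := by group
      _ = (y * y) * c * (y * y)⁻¹ := by rw [h1]; group
      _ = c := by rw [hyy, one_mul, inv_one, mul_one]
  have hinv : y * (y * y') * y⁻¹ = (y * y')⁻¹ := by
    rw [mul_inv_rev, inv_eq hyy, inv_eq hy'y']
    calc y * (y * y') * y = (y * y) * y' * y := by group
      _ = y' * y := by rw [hyy, one_mul]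
  have hzz := d.inverted hyi hzC hinv
  calc y * y' = (y * y')⁻¹ := (inv_eq hzz).symm
    _ = y' * y := by rw [mul_inv_rev, inv_eq hyy, inv_eq hy'y']

theorem conj_i_of_invol {r : G} (hr : r ∈ S) (hrC : r ∉ C) (hrr : r * r = 1) :
    r * i * r⁻¹ = i⁻¹ :=
  (d.conj_i (d.C_norm r hr)).resolve_left fun e =>
    hrC (d.mem_C_of_invol hr hrr (mul_inv_eq_iff_eq_mul.1 e))

theorem i_conj_of_invol {r : G} (hr : r ∈ S) (hrC : r ∉ C) (hrr : r * r = 1) :
    i * r * i⁻¹ = r * (i * i) := by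
  have h := d.conj_i_of_invol hr hrC hrr
  have h' : i * r = r * i⁻¹ := by
    calc i * r = r * r * i * r := by rw [hrr, one_mul]
      _ = r * (r * i * r⁻¹) := by rw [inv_eq hrr]; group
      _ = r * i⁻¹ := by rw [h]
  rw [h', mul_assoc, d.i_inv_sq]

theorem notMem_C {r : G} (hrr : r * r = 1) (hr1 : r ≠ 1) (hrj : r ≠ i * i) : r ∉ C := fun hC =>
  (d.sq_one hC hrr).elim hr1 hrj

/-- Only four elements of `S` commute with an involution outside `C` and with `i`. -/
theorem cent_invol {r : G} (hr : r ∈ S) (hrC : r ∉ C) (hrr : r * r = 1) :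
    ∀ (n : ℕ) (y : G), orderOf y = n → y ∈ S → y * i = i * y → y * r = r * y →
      y = 1 ∨ y = i * i := by
  intro n
  induction n using Nat.strong_induction_on with
  | _ n ih =>
    intro y hn hy hyi hyr
    by_cases hyC : y ∈ C
    · refine d.sq_one hyC ?_
      by_contra hyy
      obtain hyy' := hyy
      obtain ⟨m, hm⟩ := IsPGroup.iff_orderOf.1 d.S_two ⟨y, d.C_le hyC⟩
      rw [Subgroup.orderOf_mk] at hm
      have hm2 : 2 ≤ m := by
        by_contra hlt
        apply hyy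
        rw [← pow_two, ← orderOf_dvd_iff_pow_eq_one, hm]
        exact (pow_dvd_pow 2 (by omega : m ≤ 1)).trans (by simp)
      set k := 2 ^ (m - 2) with hk
      have h4 : (y ^ k) ^ 4 = 1 := by
        rw [← pow_mul, ← orderOf_dvd_iff_pow_eq_one, hm, hk, show (4 : ℕ) = 2 ^ 2 by norm_num, ← pow_add]
        exact pow_dvd_pow 2 (by omega)
      have h2 : y ^ k * y ^ k ≠ 1 := by
        rw [← pow_add, Ne, ← orderOf_dvd_iff_pow_eq_one, hm, hk, ← two_mul, ← pow_succ', Nat.pow_dvd_pow_iff_le_right (by norm_num)]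
        omega
      have hc : y ^ k * r = r * y ^ k := (Commute.pow_left hyr k).eq
      have hri : r * i = i * r := by
        rcases d.four_cases (pow_mem hyC k) h4 h2 with e | e
        · rw [← e, hc]
        · have hcc : Commute (y ^ k) r := hc
          rw [e] at hcc
          exact ((Commute.inv_left_iff).1 hcc).symm.eq
      exact hrC (d.mem_C_of_invol hr hrr hri)
    exfalso
    obtain ⟨m, hm⟩ := IsPGroup.iff_orderOf.1 d.S_two ⟨y, hy⟩
    rw [Subgroup.orderOf_mk] at hm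
    have hm1 : m ≠ 0 := fun e => hyC (by
      rw [e, pow_zero, orderOf_eq_one_iff] at hm; exact hm ▸ one_mem _)
    have hlt : orderOf (y * y) < n := by
      rw [← hn, ← pow_two, orderOf_pow' y two_ne_zero, hm, Nat.gcd_eq_right (dvd_pow_self 2 hm1)]
      exact Nat.div_lt_self (pow_pos two_pos m) one_lt_two
    rcases ih _ hlt (y * y) rfl (mul_mem hy hy) (Commute.mul_left hyi hyi).eq
        (Commute.mul_left hyr hyr).eq with e | e
    · exact hyC (d.mem_C_of_invol hy e hyi)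
    · have hz : y * i ∈ C := d.mem_C_of_invol (mul_mem hy (d.C_le d.i_mem)) (by
        calc y * i * (y * i) = y * (i * y) * i := by group
          _ = (y * y) * (i * i) := by rw [← hyi]; group
          _ = 1 := by rw [e, d.jj]) (Commute.mul_left hyi (Commute.refl i)).eq
      exact hyC (by simpa using mul_mem hz (inv_mem d.i_mem))

theorem self_cent {r : G} (hr : r ∈ S) (hrC : r ∉ C) (hrr : r * r = 1) {s : G} (hs : s ∈ S)
    (hsr : s * r = r * s) : s = 1 ∨ s = i * i ∨ s = r ∨ s = i * i * r := by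
  rcases d.conj_i (d.C_norm s hs) with e | e
  · rcases d.cent_invol hr hrC hrr _ s rfl hs (mul_inv_eq_iff_eq_mul.1 e) hsr with e' | e'
    · exact Or.inl e'
    · exact Or.inr (Or.inl e')
  · have hi : (s * r) * i = i * (s * r) := by
      refine mul_inv_eq_iff_eq_mul.1 ?_
      calc s * r * i * (s * r)⁻¹ = s * (r * i * r⁻¹) * s⁻¹ := by group
        _ = (s * i * s⁻¹)⁻¹ := by rw [d.conj_i_of_invol hr hrC hrr]; group
        _ = i := by rw [e, inv_inv]
    have hback : s = s * r * r := by rw [mul_assoc, hrr, mul_one]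
    rcases d.cent_invol hr hrC hrr _ (s * r) rfl (mul_mem hs hr) hi
        (Commute.mul_left hsr (Commute.refl r)).eq with e' | e' <;> rw [hback, e']
    · exact Or.inr (Or.inr (Or.inl (one_mul r)))
    · exact Or.inr (Or.inr (Or.inr rfl))

theorem cent_pair {p q y : G} (hp : p ∈ S) (hq : q ∈ S) (hpp : p * p = 1) (hqq : q * q = 1)
    (hp1 : p ≠ 1) (hq1 : q ≠ 1) (hpq : p ≠ q) (hc : p * q = q * p) (hy : y ∈ S)
    (hyp : y * p = p * y) (hyq : y * q = q * y) : y = 1 ∨ y = p ∨ y = q ∨ y = p * q := by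
  by_cases hpj : p = i * i
  · have hqC := d.notMem_C hqq hq1 (fun e => hpq (hpj.trans e.symm))
    rcases d.self_cent hq hqC hqq hy hyq with e | e | e | e
    · exact Or.inl e
    · exact Or.inr (Or.inl (e.trans hpj.symm))
    · exact Or.inr (Or.inr (Or.inl e))
    · exact Or.inr (Or.inr (Or.inr (e.trans (by rw [hpj]))))
  · have hpC := d.notMem_C hpp hp1 hpj
    rcases d.self_cent hp hpC hpp hy hyp with e | e | e | e
    · exact Or.inl e
    · rcases d.self_cent hp hpC hpp hq hc.symm with e' | e' | e' | e'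
      · exact absurd e' hq1
      · exact Or.inr (Or.inr (Or.inl (e.trans e'.symm)))
      · exact absurd e'.symm hpq
      · refine Or.inr (Or.inr (Or.inr ?_))
        rw [e, hc, e', mul_assoc, hpp, mul_one]
    · exact Or.inr (Or.inl e)
    · rcases d.self_cent hp hpC hpp hq hc.symm with e' | e' | e' | e'
      · exact absurd e' hq1
      · refine Or.inr (Or.inr (Or.inr ?_))
        rw [e, hc, e']
      · exact absurd e'.symm hpq
      · exact Or.inr (Or.inr (Or.inl (e.trans e'.symm)))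

/-- `S` contains an involution outside `C`, as `A` has 2-rank at least two. -/
theorem exists_r {e f : G} (he : e ∈ A) (hf : f ∈ A) (hee : e * e = 1) (hff : f * f = 1)
    (he1 : e ≠ 1) (hf1 : f ≠ 1) (hne : e ≠ f) (hef : e * f = f * e) :
    ∃ r ∈ S, r * r = 1 ∧ r ∉ C := by
  have hP : IsPGroup 2 ↥(zpowers e ⊔ zpowers f) := by
    refine IsPGroup.to_sup_of_normal_right' (isPGroup_pow (k := 1) (by rw [pow_one, pow_two, hee]))
      (isPGroup_pow (k := 1) (by rw [pow_one, pow_two, hff])) (zpowers_le.2 ?_)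
    rw [mem_normalizer_iff]
    intro x
    constructor
    · intro hx
      obtain ⟨n, rfl⟩ := mem_zpowers_iff.1 hx
      exact mem_zpowers_iff.2 ⟨n, by
        rw [← MulAut.conj_apply, map_zpow, MulAut.conj_apply, mul_inv_eq_iff_eq_mul.2 hef]⟩
    · intro hx
      obtain ⟨n, hn⟩ := mem_zpowers_iff.1 hx
      refine mem_zpowers_iff.2 ⟨n, ?_⟩
      have : x = e⁻¹ * (e * x * e⁻¹) * e := by group
      rw [this, ← hn, ((Commute.zpow_right (show Commute e f from hef) n).inv_left).eq]; group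
  obtain ⟨a, -, ha⟩ := d.S_max (zpowers e ⊔ zpowers f) (sup_le (zpowers_le.2 he) (zpowers_le.2 hf)) hP
  have h1 := ha e (mem_sup_left (mem_zpowers e))
  have h2 := ha f (mem_sup_right (mem_zpowers f))
  have sqc : ∀ x : G, x * x = 1 → a * x * a⁻¹ * (a * x * a⁻¹) = 1 := fun x hx => by
    calc a * x * a⁻¹ * (a * x * a⁻¹) = a * (x * x) * a⁻¹ := by group
      _ = 1 := by rw [hx, mul_one, mul_inv_cancel]
  have nec : ∀ x : G, x ≠ 1 → a * x * a⁻¹ ≠ 1 := fun x hx => by
    simpa [mul_inv_eq_one, mul_eq_left] using hx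
  by_cases hej : a * e * a⁻¹ = i * i
  · refine ⟨_, h2, sqc f hff, d.notMem_C (sqc f hff) (nec f hf1) fun e' => hne ?_⟩
    have := hej.trans e'.symm
    simpa using this
  · exact ⟨_, h1, sqc e hee, d.notMem_C (sqc e hee) (nec e he1) hej⟩

theorem fuse {r : G} (hr : r ∈ S) (hrC : r ∉ C) (hrr : r * r = 1) :
    ∃ g ∈ A, g * r * g⁻¹ = r ∧ g * (i * i) * g⁻¹ = i * i * r := by
  haveI : Fact (Nat.Prime 2) := ⟨Nat.prime_two⟩
  have hr1 : r ≠ 1 := fun e => hrC (e ▸ one_mem _)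
  have hSA : IsPGroup 2 ↥(S.subgroupOf A) := d.S_two.comap_subtype
  have hcard : ∀ P : Subgroup G, P ≤ A → IsPGroup 2 P → Nat.card P ≤ Nat.card S := fun P hP hP2 => by
    obtain ⟨a, -, ha⟩ := d.S_max P hP hP2
    exact Nat.card_le_card_of_injective (fun x => ⟨a * x * a⁻¹, ha x x.2⟩) fun x y e =>
      Subtype.ext ((MulAut.conj a).injective (congrArg Subtype.val e))
  let PS : Sylow 2 A :=
    { toSubgroup := S.subgroupOf A
      isPGroup' := hSA
      is_maximal' := fun {Q} hQ hle => by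
        refine (Subgroup.eq_of_le_of_card_ge hle ?_).symm
        have h1 := hcard (Q.map A.subtype) (map_subtype_le Q) (hQ.map _)
        rw [Nat.card_congr (subgroupOfEquivOfLe d.S_le).toEquiv]
        rwa [Nat.card_congr (Q.equivMapOfInjective A.subtype A.subtype_injective).toEquiv] }
  set M := (S ⊓ centralizer ({i} : Set G)).subgroupOf A with hM
  have memM : ∀ x : A, x ∈ M ↔ (x : G) ∈ S ∧ (x : G) * i = i * x := fun x => by
    rw [hM, mem_subgroupOf, mem_inf, mem_centralizer_singleton_iff]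
  have hMi : M.relIndex (PS : Subgroup A) = 2 := by
    rw [Subgroup.relIndex, index_eq_two_iff]
    refine ⟨⟨⟨r, d.S_le hr⟩, hr⟩, fun b => ?_⟩
    have hbS : ((b : A) : G) ∈ S := b.2
    simp only [mem_subgroupOf, coe_mul, memM]
    have hri := d.conj_i_of_invol hr hrC hrr
    rcases d.conj_i (d.C_norm _ hbS) with e | e
    · refine Or.inr ⟨⟨hbS, mul_inv_eq_iff_eq_mul.1 e⟩, fun hc => d.i_sq ?_⟩
      have h2 := mul_inv_eq_iff_eq_mul.2 hc.2
      rw [show ((b : A) : G) * r * i * (((b : A) : G) * r)⁻¹ =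
        ((b : A) : G) * (r * i * r⁻¹) * ((b : A) : G)⁻¹ by group, hri,
        show ((b : A) : G) * i⁻¹ * ((b : A) : G)⁻¹ = (((b : A) : G) * i * ((b : A) : G)⁻¹)⁻¹ by group, e] at h2
      nth_rw 1 [← h2]; rw [inv_mul_cancel]
    · refine Or.inl ⟨⟨mul_mem hbS hr, mul_inv_eq_iff_eq_mul.1 ?_⟩, fun hc => d.i_sq ?_⟩
      · rw [show ((b : A) : G) * r * i * (((b : A) : G) * r)⁻¹ =
          ((b : A) : G) * (r * i * r⁻¹) * ((b : A) : G)⁻¹ by group, hri,
          show ((b : A) : G) * i⁻¹ * ((b : A) : G)⁻¹ = (((b : A) : G) * i * ((b : A) : G)⁻¹)⁻¹ by group, e,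
          inv_inv]
      · have h2 := mul_inv_eq_iff_eq_mul.2 hc.2
        rw [e] at h2
        nth_rw 1 [← h2]; rw [inv_mul_cancel]
  obtain ⟨N, -, hN, -⟩ | ⟨a, ha⟩ := Cfsg.Agent.S0111.result PS M
    (fun x hx => mem_subgroupOf.2 ((memM x).1 hx).1) hMi ⟨r, d.S_le hr⟩
    (orderOf_eq_prime (Subtype.ext (by simpa [pow_two] using hrr))
      (fun e => hr1 (congrArg Subtype.val e)))
    (mem_subgroupOf.2 hr) (fun hm => hrC (d.mem_C_of_invol hr hrr ((memM _).1 hm).2))
  · exact absurd hN (d.hyp.no_two N)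
  have hc := (memM _).1 ha
  simp only [coe_mul, coe_inv] at hc
  have haj : (a : G) * r * (a : G)⁻¹ = i * i := by
    have hsq : (a : G) * r * (a : G)⁻¹ * ((a : G) * r * (a : G)⁻¹) = 1 := by
      calc _ = (a : G) * (r * r) * (a : G)⁻¹ := by group
        _ = 1 := by rw [hrr, mul_one, mul_inv_cancel]
    refine (d.sq_one (d.mem_C_of_invol hc.1 hsq hc.2) hsq).resolve_left fun e => hr1 ?_
    simpa [mul_inv_eq_one, mul_eq_left] using e
  -- a Sylow subgroup of the centralizer of `r` containing a conjugate of `S`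
  set k := (a : G)⁻¹ with hk
  have hkA : k ∈ A := inv_mem a.2
  have hkj : k * (i * i) * k⁻¹ = r := by rw [← haj, hk]; group
  set K := A ⊓ centralizer ({r} : Set G) with hK
  have hSk : S.map (MulAut.conj k).toMonoidHom ≤ K := by
    rintro _ ⟨s, hs, rfl⟩
    have hm : k * s * k⁻¹ ∈ A := mul_mem (mul_mem hkA (d.S_le hs)) (inv_mem hkA)
    refine mem_inf.2 ⟨hm, mem_centralizer_singleton_iff.2 ?_⟩
    show k * s * k⁻¹ * r = r * (k * s * k⁻¹)
    rw [← hkj]
    calc k * s * k⁻¹ * (k * (i * i) * k⁻¹) = k * (s * (i * i)) * k⁻¹ := by group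
      _ = k * (i * i) * k⁻¹ * (k * s * k⁻¹) := by rw [d.j_comm hs]; group
  obtain ⟨Q, hQ⟩ := ((d.S_two.map (MulAut.conj k).toMonoidHom).comap_subtype (K := K)).exists_le_sylow
  have hjK : i * i ∈ K := ⟨d.S_le (d.C_le d.j_mem), mem_centralizer_singleton_iff.2 (d.j_comm hr).symm⟩
  obtain ⟨P, hP⟩ := (isPGroup_pow (x := (⟨i * i, hjK⟩ : K)) (k := 1)
    (Subtype.ext (by simpa [pow_two] using d.jj))).exists_le_sylow
  obtain ⟨c, hcPQ⟩ := MulAction.exists_smul_eq K P Q
  have hQeq : (Q : Subgroup K).map K.subtype ≤ S.map (MulAut.conj k).toMonoidHom := by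
    refine (Subgroup.eq_of_le_of_card_ge ?_ ?_).symm.le
    · intro x hx
      exact ⟨⟨x, hSk hx⟩, hQ (mem_subgroupOf.2 hx), rfl⟩
    · refine (hcard _ ((map_subtype_le _).trans inf_le_left) (Q.isPGroup'.map _)).trans (le_of_eq ?_)
      exact Nat.card_congr (S.equivMapOfInjective _ (MulAut.conj k).injective).toEquiv
  have hmem : (c : G) * (i * i) * (c : G)⁻¹ ∈ S.map (MulAut.conj k).toMonoidHom := by
    refine hQeq ⟨c * ⟨i * i, hjK⟩ * c⁻¹, ?_, rfl⟩
    show c * ⟨i * i, hjK⟩ * c⁻¹ ∈ (Q : Subgroup K)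
    rw [← hcPQ, Sylow.coe_subgroup_smul]
    exact Subgroup.mem_pointwise_smul_iff_inv_smul_mem.2
      (by simpa [MulAut.smul_def, MulAut.inv_def, mul_assoc] using hP (mem_zpowers _))
  obtain ⟨e, heS, he⟩ := hmem
  change k * e * k⁻¹ = (c : G) * (i * i) * (c : G)⁻¹ at he
  have hcr : (c : G) * r = r * (c : G) := mem_centralizer_singleton_iff.1 c.2.2
  set k' := (c : G)⁻¹ * k with hk'
  have hk'A : k' ∈ A := mul_mem (inv_mem c.2.1) hkA
  have hk'j : k' * (i * i) * k'⁻¹ = r := by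
    rw [hk']
    calc (c : G)⁻¹ * k * (i * i) * ((c : G)⁻¹ * k)⁻¹ = (c : G)⁻¹ * (k * (i * i) * k⁻¹) * c := by group
      _ = r := by rw [hkj, mul_assoc, ← hcr, inv_mul_cancel_left]
  have hk'e : k' * e * k'⁻¹ = i * i := by
    rw [hk']
    calc (c : G)⁻¹ * k * e * ((c : G)⁻¹ * k)⁻¹ = (c : G)⁻¹ * (k * e * k⁻¹) * c := by group
      _ = i * i := by rw [he]; group
  have hee : e * e = 1 := by
    calc e * e = k'⁻¹ * ((k' * e * k'⁻¹) * (k' * e * k'⁻¹)) * k' := by group
      _ = 1 := by rw [hk'e, d.jj, mul_one, inv_mul_cancel]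
  have he1 : e ≠ 1 := fun h => d.j_ne (by rw [← hk'e, h, mul_one, mul_inv_cancel])
  have hej : e ≠ i * i := fun h => hrC (by rw [← hk'j, ← h, hk'e]; exact d.j_mem)
  have hei := d.i_conj_of_invol heS (d.notMem_C hee he1 hej) hee
  refine ⟨k' * i * k'⁻¹, mul_mem (mul_mem hk'A (d.S_le (d.C_le d.i_mem))) (inv_mem hk'A), ?_, ?_⟩
  · rw [← hk'j]; group
  · calc k' * i * k'⁻¹ * (i * i) * (k' * i * k'⁻¹)⁻¹
        = k' * i * k'⁻¹ * (k' * e * k'⁻¹) * (k' * i * k'⁻¹)⁻¹ := by rw [hk'e]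
      _ = k' * (i * e * i⁻¹) * k'⁻¹ := by group
      _ = (k' * e * k'⁻¹) * (k' * (i * i) * k'⁻¹) := by rw [hei]; group
      _ = i * i * r := by rw [hk'e, hk'j]

theorem exists_a {r : G} (hr : r ∈ S) (hrC : r ∉ C) (hrr : r * r = 1) :
    ∃ a : G, a * a = i * i ∧ a * r = r * a ∧ (∀ x ∈ A, a * x * a⁻¹ ∈ A) := by
  obtain ⟨u, v, hu, hv, hu1, hv1, huv⟩ := d.hyp.exists_pair
  obtain ⟨w, hwU, hw1, hwi⟩ : ∃ w ∈ U, w ≠ 1 ∧ w * i * w⁻¹ = i := by
    rcases d.conj_i (d.C_normU u hu) with e | e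
    · exact ⟨u, hu, hu1, e⟩
    rcases d.conj_i (d.C_normU v hv) with e' | e'
    · exact ⟨v, hv, hv1, e'⟩
    refine ⟨u * v, mul_mem hu hv, huv, ?_⟩
    calc u * v * i * (u * v)⁻¹ = u * (v * i * v⁻¹) * u⁻¹ := by group
      _ = (u * i * u⁻¹)⁻¹ := by rw [e']; group
      _ = i := by rw [e, inv_inv]
  have hww := d.hyp.uu w hwU
  have hwin := inv_eq hww
  have hrin := inv_eq hrr
  set r' := w * r * w⁻¹ with hr'
  have hr'S : r' ∈ S := d.S_norm w hwU r hr
  have hr'r' : r' * r' = 1 := by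
    rw [hr']; calc w * r * w⁻¹ * (w * r * w⁻¹) = w * (r * r) * w⁻¹ := by group
      _ = 1 := by rw [hrr, mul_one, mul_inv_cancel]
  have hx : r * r' ∈ C := by
    refine d.self _ (mul_mem hr hr'S) fun c hc => mul_inv_eq_iff_eq_mul.1 ?_
    have hw' : ∀ c ∈ C, w⁻¹ * c * w⁻¹⁻¹ ∈ C := fun c hc => by
      rw [hwin]; exact d.C_normU w hwU c hc
    have h1 : r' * c * r'⁻¹ = r * c * r⁻¹ := by
      calc r' * c * r'⁻¹ = w * (r * (w⁻¹ * c * w⁻¹⁻¹) * r⁻¹) * w⁻¹ := by rw [hr']; group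
        _ = w * (w⁻¹ * (r * c * r⁻¹) * w⁻¹⁻¹) * w⁻¹ := by rw [comm_conj d.C_cyc (d.C_norm r hr) hw' hc]
        _ = r * c * r⁻¹ := by group
    calc r * r' * c * (r * r')⁻¹ = r * (r' * c * r'⁻¹) * r⁻¹ := by group
      _ = (r * r) * c * (r * r)⁻¹ := by rw [h1]; group
      _ = c := by rw [hrr, one_mul, inv_one, mul_one]
  have hinv : w * (r * r') * w⁻¹ = (r * r')⁻¹ := by
    rw [mul_inv_rev, hrin, inv_eq hr'r', hr']
    calc w * (r * (w * r * w⁻¹)) * w⁻¹ = w * r * w * r * (w⁻¹ * w⁻¹) := by group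
      _ = w * r * w⁻¹ * r := by rw [hwin, hww, mul_one]
  have hxx := d.inverted (mul_inv_eq_iff_eq_mul.1 hwi) hx hinv
  have hr'eq : r' = r * (i * i) := by
    have : r' = r * (r * r') := by rw [← mul_assoc, hrr, one_mul]
    rcases d.sq_one hx hxx with e | e
    · exfalso
      rw [e, mul_one] at this
      have hwj : w * (i * i) = i * i * w := mul_inv_eq_iff_eq_mul.1 (d.conj_j (d.C_normU w hwU))
      exact hrC (d.hyp.no_four w hwU hw1 r (d.S_le hr) (i * i) (d.S_le (d.C_le d.j_mem))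
        (mul_inv_eq_iff_eq_mul.1 this) hwj (d.j_comm hr) hrr d.jj (fun h => hrC (h ▸ one_mem _)) d.j_ne
        ▸ d.j_mem)
    · rw [this, e]
  have hiw : i⁻¹ * w = w * i⁻¹ := by
    calc i⁻¹ * w = (w * i * w⁻¹)⁻¹ * w := by rw [hwi]
      _ = w * i⁻¹ := by group
  refine ⟨w * i⁻¹, ?_, ?_, ?_⟩
  · calc w * i⁻¹ * (w * i⁻¹) = w * (i⁻¹ * w) * i⁻¹ := by group
      _ = (w * w) * (i⁻¹ * i⁻¹) := by rw [hiw]; group
      _ = i * i := by rw [hww, one_mul, d.i_inv_sq]
  · refine mul_inv_eq_iff_eq_mul.1 ?_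
    have h1 : i⁻¹ * r * i = r * (i * i) := by
      have h2 := d.i_conj_of_invol hr hrC hrr
      calc i⁻¹ * r * i = i⁻¹ * i⁻¹ * (i * r * i⁻¹) * (i * i) := by group
        _ = (i * i) * r * ((i * i) * (i * i)) := by rw [h2, d.i_inv_sq]; group
        _ = r * (i * i) := by rw [d.jj, mul_one, d.j_comm hr]
    calc w * i⁻¹ * r * (w * i⁻¹)⁻¹ = w * (i⁻¹ * r * i) * w⁻¹ := by group
      _ = r' * (w * (i * i) * w⁻¹) := by rw [h1, hr']; group
      _ = r := by rw [d.conj_j (d.C_normU w hwU), hr'eq, mul_assoc, d.jj, mul_one]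
  · intro x hxA
    have hiA : i ∈ A := d.S_le (d.C_le d.i_mem)
    have := d.hyp.norm w hwU _ (mul_mem (mul_mem (inv_mem hiA) hxA) hiA)
    rwa [show w * i⁻¹ * x * (w * i⁻¹)⁻¹ = w * (i⁻¹ * x * i) * w⁻¹ by group]

theorem absurd_rank {e f : G} (he : e ∈ A) (hf : f ∈ A) (hee : e * e = 1) (hff : f * f = 1)
    (he1 : e ≠ 1) (hf1 : f ≠ 1) (hne : e ≠ f) (hef : e * f = f * e) : False := by
  haveI : Fact (Nat.Prime 2) := ⟨Nat.prime_two⟩
  obtain ⟨r, hr, hrr, hrC⟩ := d.exists_r he hf hee hff he1 hf1 hne hef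
  obtain ⟨a, haa, har, haA⟩ := d.exists_a hr hrC hrr
  obtain ⟨g, hgA, hgr, hgj⟩ := d.fuse hr hrC hrr
  set j := i * i with hj
  have hr1 : r ≠ 1 := fun h => hrC (h ▸ one_mem _)
  have hrj : r ≠ j := fun h => hrC (h ▸ d.j_mem)
  have hjA : j ∈ A := d.S_le (d.C_le d.j_mem)
  have hrA : r ∈ A := d.S_le hr
  have hjr : j * r = r * j := (d.j_comm hr).symm
  have haj : a * j = j * a := by rw [← haa, mul_assoc]
  have hA : A ≤ normalizer (A : Set G) := le_normalizer
  have haN : a ∈ normalizer (A : Set G) := mem_normalizer_iff.2 fun x => ⟨haA x, fun hx => by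
    have h1 := haA _ hx
    rw [show a * (a * x * a⁻¹) * a⁻¹ = (a * a) * x * (a * a)⁻¹ by group, haa] at h1
    have := mul_mem (mul_mem (inv_mem hjA) h1) hjA
    rwa [show j⁻¹ * (j * x * j⁻¹) * j = x by group] at this⟩
  -- the members of `A ⊔ ⟨a⟩`
  let H : Subgroup G :=
    { carrier := {x | x ∈ A ∨ x * a⁻¹ ∈ A}
      one_mem' := Or.inl (one_mem A)
      mul_mem' := by
        have hn : ∀ y, y ∈ A → a * y * a⁻¹ ∈ A := haA
        rintro x y (hx | hx) (hy | hy)
        · exact Or.inl (mul_mem hx hy)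
        · exact Or.inr (by rw [mul_assoc]; exact mul_mem hx hy)
        · exact Or.inr (by
            rw [show x * y * a⁻¹ = (x * a⁻¹) * (a * y * a⁻¹) by group]
            exact mul_mem hx (hn y hy))
        · exact Or.inl (by
            rw [show x * y = (x * a⁻¹) * (a * (y * a⁻¹) * a⁻¹) * (a * a) by group]
            exact mul_mem (mul_mem hx (hn _ hy)) (haa ▸ hjA))
      inv_mem' := by
        rintro x (hx | hx)
        · exact Or.inl (inv_mem hx)
        · refine Or.inr ?_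
          rw [show x⁻¹ * a⁻¹ = a⁻¹ * (x * a⁻¹)⁻¹ * a * (a * a)⁻¹ by group]
          refine mul_mem ?_ (inv_mem (haa ▸ hjA))
          exact (mem_normalizer_iff''.1 haN _).1 (inv_mem hx) }
  have hAH : A ≤ H := fun x hx => Or.inl hx
  have haH : a ∈ H := Or.inr (by rw [mul_inv_cancel]; exact one_mem A)
  set K := H ⊓ centralizer ({j, r} : Set G) with hK
  have memK : ∀ x, x ∈ K ↔ x ∈ H ∧ x * j = j * x ∧ x * r = r * x := fun x => by
    rw [hK, mem_inf, mem_centralizer_iff]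
    exact and_congr_right fun _ => ⟨fun h => ⟨(h j (Or.inl rfl)).symm, (h r (Or.inr rfl)).symm⟩,
      fun h y hy => by rcases hy with rfl | rfl; exacts [h.1.symm, h.2.symm]⟩
  have ha8 : a ^ (2 ^ 2) = 1 := by
    rw [show (2 : ℕ) ^ 2 = 4 by norm_num, four_mul, haa, d.jj]
  have hT : IsPGroup 2 ↥(zpowers a ⊔ zpowers r) := by
    refine IsPGroup.to_sup_of_normal_right' (isPGroup_pow ha8)
      (isPGroup_pow (k := 1) (by rw [pow_one, pow_two, hrr])) (zpowers_le.2 ?_)
    exact centralizer_le_normalizer _ (mem_centralizer_iff.2 fun y hy => by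
      obtain ⟨n, rfl⟩ := mem_zpowers_iff.1 hy
      exact ((Commute.zpow_right (show Commute a r from har) n).symm).eq)
  have hTK : zpowers a ⊔ zpowers r ≤ K :=
    sup_le (zpowers_le.2 ((memK a).2 ⟨haH, haj, har⟩))
      (zpowers_le.2 ((memK r).2 ⟨hAH hrA, hjr.symm, rfl⟩))
  obtain ⟨R, hR⟩ := (hT.comap_subtype (K := K)).exists_le_sylow
  set R' := (R : Subgroup K).map K.subtype with hR'
  have hrR : r ∈ R' := ⟨⟨r, hTK (mem_sup_right (mem_zpowers r))⟩,
    hR (mem_subgroupOf.2 (mem_sup_right (mem_zpowers r))), rfl⟩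
  have haR : a ∈ R' := ⟨⟨a, hTK (mem_sup_left (mem_zpowers a))⟩,
    hR (mem_subgroupOf.2 (mem_sup_left (mem_zpowers a))), rfl⟩
  have hjR : j ∈ R' := haa ▸ mul_mem haR haR
  obtain ⟨b, -, hb⟩ := d.S_max (R' ⊓ A) inf_le_right ((R.isPGroup'.map K.subtype).to_le inf_le_left)
  have hsq : ∀ y ∈ R', y ∈ A → y * y = 1 := fun y hy hyA => by
    obtain ⟨-, hyj, hyr⟩ := (memK y).1 (map_subtype_le _ hy)
    set cb := MulAut.conj b with hcb
    have sq : ∀ x : G, x * x = 1 → cb x * cb x = 1 := fun x hx => by rw [← map_mul, hx, map_one]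
    have ne : ∀ x : G, x ≠ 1 → cb x ≠ 1 := fun x hx => by rwa [Ne, MulEquiv.map_eq_one_iff]
    have cm : ∀ x z : G, x * z = z * x → cb x * cb z = cb z * cb x := fun x z h => by
      rw [← map_mul, h, map_mul]
    have hy' : y = 1 ∨ y = j ∨ y = r ∨ y = j * r := by
      rcases d.cent_pair (hb j ⟨hjR, hjA⟩) (hb r ⟨hrR, hrA⟩) (sq j d.jj) (sq r hrr) (ne j d.j_ne)
          (ne r hr1) (fun h => hrj (cb.injective h).symm) (cm j r hjr) (hb y ⟨hy, hyA⟩)
          (cm y j hyj) (cm y r hyr) with h | h | h | h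
      · exact Or.inl (cb.injective (h.trans (map_one cb).symm))
      · exact Or.inr (Or.inl (cb.injective h))
      · exact Or.inr (Or.inr (Or.inl (cb.injective h)))
      · exact Or.inr (Or.inr (Or.inr (cb.injective (h.trans (map_mul cb j r).symm))))
    rcases hy' with rfl | rfl | rfl | rfl
    · exact one_mul 1
    · exact d.jj
    · exact hrr
    · calc j * r * (j * r) = j * (r * j) * r := by group
        _ = (j * j) * (r * r) := by rw [← hjr]; group
        _ = 1 := by rw [d.jj, hrr, mul_one]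
  have hsq2 : ∀ y ∈ R', y * y = 1 ∨ y * y = j := fun y hy => by
    obtain ⟨hyH, hyj, hyr⟩ := (memK y).1 (map_subtype_le _ hy)
    rcases hyH with hyA | hyA
    · exact Or.inl (hsq y hy hyA)
    refine Or.inr ?_
    have hbR : y * a⁻¹ ∈ R' := mul_mem hy (inv_mem haR)
    have hbb := hsq _ hbR hyA
    have hba : (y * a⁻¹) * a = a * (y * a⁻¹) := by
      have h2 := hsq _ (mul_mem (mul_mem haR hbR) (inv_mem haR)) (haA _ hyA)
      have hcent := hsq _ (mul_mem hbR (mul_mem (mul_mem haR hbR) (inv_mem haR)))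
        (mul_mem hyA (haA _ hyA))
      set p := y * a⁻¹ with hp
      set q := a * p * a⁻¹ with hq
      -- elements of `R' ∩ A` are among `1, j, r, jr`, all fixed by `a`
      obtain ⟨-, hpj, hpr⟩ := (memK p).1 (map_subtype_le _ hbR)
      set cb := MulAut.conj b with hcb
      have sq : ∀ x : G, x * x = 1 → cb x * cb x = 1 := fun x hx => by rw [← map_mul, hx, map_one]
      have ne : ∀ x : G, x ≠ 1 → cb x ≠ 1 := fun x hx => by rwa [Ne, MulEquiv.map_eq_one_iff]
      have cm : ∀ x z : G, x * z = z * x → cb x * cb z = cb z * cb x := fun x z h => by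
        rw [← map_mul, h, map_mul]
      rcases d.cent_pair (hb j ⟨hjR, hjA⟩) (hb r ⟨hrR, hrA⟩) (sq j d.jj) (sq r hrr) (ne j d.j_ne)
          (ne r hr1) (fun h => hrj (cb.injective h).symm) (cm j r hjr) (hb p ⟨hbR, hyA⟩)
          (cm p j hpj) (cm p r hpr) with h | h | h | h
      · rw [cb.injective (h.trans (map_one cb).symm), one_mul, mul_one]
      · rw [cb.injective h]; exact haj.symm
      · rw [cb.injective h]; exact har.symm
      · rw [cb.injective (h.trans (map_mul cb j r).symm)]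
        exact (Commute.mul_right (show Commute a j from haj) har).symm.eq
    calc y * y = (y * a⁻¹) * a * ((y * a⁻¹) * a) := by group
      _ = (y * a⁻¹) * (a * (y * a⁻¹)) * a := by group
      _ = (y * a⁻¹) * ((y * a⁻¹) * a) * a := by rw [hba]
      _ = ((y * a⁻¹) * (y * a⁻¹)) * (a * a) := by group
      _ = j := by rw [hbb, one_mul, haa]
  -- the conjugate of `a` under `g`
  set a' := g * a * g⁻¹ with ha'
  have ha'r : a' * r = r * a' := by
    rw [ha']; nth_rw 1 [← hgr]; nth_rw 2 [← hgr]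
    calc g * a * g⁻¹ * (g * r * g⁻¹) = g * (a * r) * g⁻¹ := by group
      _ = g * r * g⁻¹ * (g * a * g⁻¹) := by rw [har]; group
  have ha'sq : a' * a' = j * r := by
    rw [ha', ← hgj]
    calc g * a * g⁻¹ * (g * a * g⁻¹) = g * (a * a) * g⁻¹ := by group
      _ = g * j * g⁻¹ := by rw [haa]
  have ha'j : a' * j = j * a' := by
    have h1 : j = a' * a' * r := by rw [ha'sq, mul_assoc, hrr, mul_one]
    rw [h1]
    calc a' * (a' * a' * r) = a' * a' * (a' * r) := by group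
      _ = a' * a' * r * a' := by rw [ha'r]; group
  have ha'K : a' ∈ K := (memK a').2
    ⟨mul_mem (mul_mem (hAH hgA) haH) (inv_mem (hAH hgA)), ha'j, ha'r⟩
  obtain ⟨P, hP⟩ := (isPGroup_pow (x := (⟨a', ha'K⟩ : K)) (k := 2) (Subtype.ext (by
    show (g * a * g⁻¹) ^ (2 ^ 2) = 1
    rw [← MulAut.conj_apply, ← map_pow, ha8, map_one]))).exists_le_sylow
  obtain ⟨k, hk⟩ := MulAction.exists_smul_eq K P R
  have hkR : (k : G) * a' * (k : G)⁻¹ ∈ R' := by
    refine ⟨k * ⟨a', ha'K⟩ * k⁻¹, ?_, rfl⟩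
    show k * ⟨a', ha'K⟩ * k⁻¹ ∈ (R : Subgroup K)
    rw [← hk, Sylow.coe_subgroup_smul]
    exact Subgroup.mem_pointwise_smul_iff_inv_smul_mem.2
      (by simpa [MulAut.smul_def, MulAut.inv_def, mul_assoc] using hP (mem_zpowers _))
  obtain ⟨-, hkj, hkr⟩ := (memK k).1 k.2
  have hval : (k : G) * a' * (k : G)⁻¹ * ((k : G) * a' * (k : G)⁻¹) = j * r := by
    calc (k : G) * a' * (k : G)⁻¹ * ((k : G) * a' * (k : G)⁻¹)
        = (k : G) * (a' * a') * (k : G)⁻¹ := by group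
      _ = j * r := mul_inv_eq_iff_eq_mul.2 (by
          rw [ha'sq]; exact (Commute.mul_right (show Commute (k : G) j from hkj) hkr).eq)
  rcases hsq2 _ hkR with h | h <;> rw [hval] at h
  · exact hrj ((inv_eq d.jj).symm.trans (inv_eq_of_mul_eq_one_right h)).symm
  · exact hr1 (mul_eq_left.1 h)

end Conf

/-- A four-group acting with rank-one fixed points on a group without subgroups of index two. -/
theorem rank_le_one {A U : Subgroup G} (h : Hyp A U) {e f : G} (he : e ∈ A) (hf : f ∈ A)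
    (hee : e * e = 1) (hff : f * f = 1) (he1 : e ≠ 1) (hf1 : f ≠ 1) (hne : e ≠ f)
    (hef : e * f = f * e) : False := by
  haveI : Fact (Nat.Prime 2) := ⟨Nat.prime_two⟩
  have hUN : U ≤ normalizer (A : Set G) := fun u hu => mem_normalizer_iff.2 fun x => ⟨h.norm u hu x,
    fun hx => by
      have h1 := h.norm u hu _ hx
      rwa [show u * (u * x * u⁻¹) * u⁻¹ = (u * u) * x * (u * u)⁻¹ by group, h.uu u hu, one_mul,
        inv_one, mul_one] at h1⟩
  set H := A ⊔ U with hH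
  have hUp : IsPGroup 2 U := IsPGroup.of_card (n := 2) (by rw [h.card]; norm_num)
  obtain ⟨T0, hT0⟩ := (hUp.comap_subtype (K := H)).exists_le_sylow
  set T := (T0 : Subgroup H).map H.subtype with hT
  have hUT : U ≤ T := fun u hu => ⟨⟨u, (le_sup_right : U ≤ H) hu⟩, hT0 (mem_subgroupOf.2 hu), rfl⟩
  have hTp : IsPGroup 2 T := T0.isPGroup'.map _
  set S := A ⊓ T with hS
  have hSp : IsPGroup 2 S := hTp.to_le inf_le_right
  have hS_max : ∀ P : Subgroup G, P ≤ A → IsPGroup 2 P → ∃ a ∈ A, ∀ x ∈ P, a * x * a⁻¹ ∈ S := by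
    intro P hPA hP
    obtain ⟨Q, hQ⟩ := (hP.comap_subtype (K := H)).exists_le_sylow
    obtain ⟨k, hk⟩ := MulAction.exists_smul_eq H Q T0
    have hk' : (k : G) ∈ ((U : Set G) * (A : Set G)) := by
      rw [← coe_mul_of_left_le_normalizer_right U A hUN]
      show (k : G) ∈ U ⊔ A
      rw [sup_comm]; exact k.2
    obtain ⟨u, hu, a, ha, hua⟩ := Set.mem_mul.1 hk'
    refine ⟨a, ha, fun x hx => mem_inf.2 ⟨mul_mem (mul_mem ha (hPA hx)) (inv_mem ha), ?_⟩⟩
    have hxk : (k : G) * x * (k : G)⁻¹ ∈ T := by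
      refine ⟨k * ⟨x, (le_sup_left : A ≤ H) (hPA hx)⟩ * k⁻¹, ?_, rfl⟩
      show k * ⟨x, (le_sup_left : A ≤ H) (hPA hx)⟩ * k⁻¹ ∈ (T0 : Subgroup H)
      rw [← hk, Sylow.coe_subgroup_smul]
      exact Subgroup.mem_pointwise_smul_iff_inv_smul_mem.2
        (by simpa [MulAut.smul_def, MulAut.inv_def, mul_assoc] using
          hQ (show (⟨x, (le_sup_left : A ≤ H) (hPA hx)⟩ : H) ∈ P.subgroupOf H from hx))
    have := mul_mem (mul_mem (inv_mem (hUT hu)) hxk) (hUT hu)
    rwa [← hua, show u⁻¹ * (u * a * x * (u * a)⁻¹) * u = a * x * a⁻¹ by group] at this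
  have hTA : ∀ t ∈ T, ∀ x ∈ A, t * x * t⁻¹ ∈ A := fun t ht x hx =>
    (mem_normalizer_iff.1 ((sup_le le_normalizer hUN) (map_subtype_le _ ht)) x).1 hx
  -- maximal abelian normal subgroup
  let Ok : Subgroup G → Prop := fun D =>
    D ≤ S ∧ (∀ x ∈ D, ∀ y ∈ D, x * y = y * x) ∧ ∀ t ∈ T, ∀ x ∈ D, t * x * t⁻¹ ∈ D
  obtain ⟨C, -, hC⟩ := Finite.exists_le_maximal (p := Ok) (a := (⊥ : Subgroup G))
    ⟨bot_le, fun x hx y hy => by rw [mem_bot.1 hx, mem_bot.1 hy],
      fun t _ x hx => by rw [mem_bot.1 hx, mul_one, mul_inv_cancel]; exact one_mem _⟩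
  obtain ⟨⟨hCS, hCab, hCn⟩, hCmax⟩ := hC
  have hself : ∀ s ∈ S, (∀ c ∈ C, s * c = c * s) → s ∈ C := by
    by_contra hc; push Not at hc
    obtain ⟨s, hsS, hsc, hsC⟩ := hc
    haveI : (C.subgroupOf T).Normal := ⟨fun x hx t => mem_subgroupOf.2 (hCn t t.2 x hx)⟩
    set q := QuotientGroup.mk' (C.subgroupOf T) with hq
    set D : Subgroup T := (S ⊓ centralizer (C : Set G)).subgroupOf T with hD
    haveI hDn : D.Normal := ⟨fun x hx t => by
      rw [hD, mem_subgroupOf, mem_inf, mem_centralizer_iff] at hx ⊢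
      obtain ⟨⟨hxA, hxT⟩, hxc⟩ := hx
      refine ⟨⟨hTA t t.2 _ hxA, (t * x * t⁻¹).2⟩, fun c hcC => ?_⟩
      have hc' := hxc _ (hCn _ (inv_mem t.2) c hcC)
      simp only [inv_inv] at hc'
      simp only [coe_mul, coe_inv]
      calc c * ((t : G) * x * (t : G)⁻¹) = t * ((t : G)⁻¹ * c * t * x) * (t : G)⁻¹ := by group
        _ = t * x * (t : G)⁻¹ * c := by rw [hc']; group⟩
    haveI : (D.map q).Normal := hDn.map q (QuotientGroup.mk'_surjective _)
    have hne : D.map q ≠ ⊥ := fun e => hsC (by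
      have hm : (⟨s, hsS.2⟩ : T) ∈ D := mem_subgroupOf.2 ⟨hsS, mem_centralizer_iff.2 fun c hc => (hsc c hc).symm⟩
      have := mem_bot.1 (e ▸ mem_map_of_mem q hm)
      exact mem_subgroupOf.1 ((QuotientGroup.eq_one_iff _).1 this))
    obtain ⟨z', hz'⟩ := Subgroup.ne_bot_iff_exists_ne_one.1
      (PGroup.inf_center_ne_bot (hTp.to_quotient _) (D.map q) hne)
    obtain ⟨⟨x, hxD, hxz⟩, hzc⟩ := mem_inf.1 z'.2
    have hz1 : (z' : T ⧸ C.subgroupOf T) ≠ 1 := fun e => hz' (Subtype.ext e)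
    have hxS : (x : G) ∈ S ∧ (x : G) ∈ centralizer (C : Set G) := mem_subgroupOf.1 hxD
    have hxC : (x : G) ∉ C := fun hxC => hz1 (by
      rw [← hxz]; exact (QuotientGroup.eq_one_iff _).2 (mem_subgroupOf.2 hxC))
    have key : Ok (C ⊔ zpowers (x : G)) := by
      refine ⟨sup_le hCS (zpowers_le.2 hxS.1), ?_, ?_⟩
      · have hle : C ⊔ zpowers (x : G) ≤ centralizer ((C ⊔ zpowers (x : G) : Subgroup G) : Set G) := by
          rw [sup_eq_closure, centralizer_closure]
          refine (closure_le _).2 ?_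
          rintro a (ha | ha) <;> refine mem_centralizer_iff.2 ?_ <;> rintro b (hb | hb)
          · exact hCab b hb a ha
          · obtain ⟨n, rfl⟩ := mem_zpowers_iff.1 hb
            exact ((Commute.zpow_left (show Commute (x : G) a from
              (mem_centralizer_iff.1 hxS.2 a ha).symm) n)).eq
          · obtain ⟨n, rfl⟩ := mem_zpowers_iff.1 ha
            exact ((Commute.zpow_left (show Commute (x : G) b from
              (mem_centralizer_iff.1 hxS.2 b hb).symm) n)).symm.eq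
          · obtain ⟨n, rfl⟩ := mem_zpowers_iff.1 ha
            obtain ⟨m, rfl⟩ := mem_zpowers_iff.1 hb
            exact (Commute.zpow_zpow_self _ _ _).eq
        exact fun a ha b hb => (mem_centralizer_iff.1 (hle ha) b hb).symm
      · intro t ht y hy
        have hsub : C ⊔ zpowers (x : G) ≤ (C ⊔ zpowers (x : G)).comap (MulAut.conj t).toMonoidHom := by
          refine sup_le (fun c hc => mem_sup_left (hCn t ht c hc)) (zpowers_le.2 ?_)
          show t * (x : G) * t⁻¹ ∈ C ⊔ zpowers (x : G)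
          have hq1 : q ((⟨t, ht⟩ * x * ⟨t, ht⟩⁻¹) * x⁻¹) = 1 := by
            rw [map_mul, map_mul, map_mul, map_inv, map_inv, hxz, mem_center_iff.1 hzc (q ⟨t, ht⟩)]
            group
          have hm : t * (x : G) * t⁻¹ * (x : G)⁻¹ ∈ C := by
            simpa using mem_subgroupOf.1 ((QuotientGroup.eq_one_iff _).1 hq1)
          have := mul_mem (mem_sup_left hm : _ ∈ C ⊔ zpowers (x : G)) (mem_sup_right (mem_zpowers (x : G)))
          simpa using this
        exact hsub hy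
    exact hxC (hCmax key le_sup_left (mem_sup_right (mem_zpowers _)))
  have hCnS : ∀ g ∈ S, ∀ c ∈ C, g * c * g⁻¹ ∈ C := fun g hg => hCn g hg.2
  have hCnU : ∀ g ∈ U, ∀ c ∈ C, g * c * g⁻¹ ∈ C := fun g hg => hCn g (hUT hg)
  have hSU : ∀ u ∈ U, ∀ s ∈ S, u * s * u⁻¹ ∈ S := fun u hu s hs =>
    mem_inf.2 ⟨h.norm u hu s hs.1, mul_mem (mul_mem (hUT hu) hs.2) (inv_mem (hUT hu))⟩
  have hCcyc : IsCyclic C := by
    haveI : IsMulCommutative C := ⟨⟨fun a b => Subtype.ext (hCab a a.2 b b.2)⟩⟩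
    haveI : Fintype C := Fintype.ofFinite C
    letI : CommGroup C := { (inferInstance : Group C) with mul_comm := mul_comm' }
    refine Cfsg.Agent.FourAct.isCyclic_of_unique (hSp.to_le hCS) fun x y hxx hyy hx1 hy1 => ?_
    -- a fixed involution
    haveI hWn : ((C.subgroupOf T) : Subgroup T).Normal := ⟨fun z hz t => mem_subgroupOf.2 (hCn t t.2 z hz)⟩
    let W : Subgroup T :=
      { carrier := {t | (t : G) ∈ C ∧ (t : G) * t = 1}
        one_mem' := ⟨one_mem C, one_mul 1⟩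
        mul_mem' := fun {a b} ha hb => ⟨mul_mem ha.1 hb.1, by
          simp only [coe_mul]
          calc (a : G) * b * (a * b) = a * (b * a) * b := by group
            _ = (a * a) * (b * b) := by rw [← hCab _ ha.1 _ hb.1]; group
            _ = 1 := by rw [ha.2, hb.2, one_mul]⟩
        inv_mem' := fun {a} ha => ⟨inv_mem ha.1, by
          simp only [coe_inv]; rw [← mul_inv_rev, ha.2, inv_one]⟩ }
    haveI : W.Normal := ⟨fun z hz t => ⟨hCn t t.2 z hz.1, by
      simp only [coe_mul, coe_inv]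
      calc (t : G) * z * (t : G)⁻¹ * ((t : G) * z * (t : G)⁻¹) = t * (z * z) * (t : G)⁻¹ := by group
        _ = 1 := by rw [hz.2, mul_one, mul_inv_cancel]⟩⟩
    have hxW : (⟨x.1, (hCS x.2).2⟩ : T) ∈ W := ⟨x.2, congrArg Subtype.val hxx⟩
    have hWne : W ≠ ⊥ := fun e => by
      rw [e, mem_bot] at hxW
      exact hx1 (Subtype.ext (congrArg Subtype.val hxW :))
    obtain ⟨z, hz⟩ := Subgroup.ne_bot_iff_exists_ne_one.1 (PGroup.inf_center_ne_bot hTp W hWne)
    obtain ⟨⟨hzC, hzz⟩, hzc⟩ := z.2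
    have hz1 : ((z : T) : G) ≠ 1 := fun e => hz (Subtype.ext (Subtype.ext e))
    by_contra hxy
    obtain ⟨w, hwC, hww, hw1, hwz⟩ : ∃ w ∈ C, w * w = 1 ∧ w ≠ 1 ∧ w ≠ ((z : T) : G) := by
      by_cases hx' : (x : G) = ((z : T) : G)
      · exact ⟨y, y.2, congrArg Subtype.val hyy, fun e => hy1 (Subtype.ext e),
          fun e => hxy (Subtype.ext (hx'.trans e.symm))⟩
      · exact ⟨x, x.2, congrArg Subtype.val hxx, fun e => hx1 (Subtype.ext e), hx'⟩
    exact h.no_pair (hCS hzC).1 (hCS hwC).1 hzz hww hz1 hw1 hwz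
      (fun u hu => mul_inv_eq_iff_eq_mul.2
        (congrArg Subtype.val (mem_center_iff.1 hzc ⟨u, hUT hu⟩) :))
      (hCab _ hzC _ hwC) (fun u hu => hCab _ hwC _ (hCnU u hu _ hwC))
  obtain ⟨i, hiC, hi4, hi2⟩ : ∃ i ∈ C, i ^ 4 = 1 ∧ i * i ≠ 1 := by
    by_contra hno; push Not at hno
    have hall : ∀ c ∈ C, c * c = 1 := by
      intro c hc
      obtain ⟨m, hm⟩ := IsPGroup.iff_orderOf.1 hSp ⟨c, hCS hc⟩
      rw [Subgroup.orderOf_mk] at hm
      by_contra hcc
      have hm2 : 2 ≤ m := by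
        by_contra hlt
        apply hcc
        rw [← pow_two, ← orderOf_dvd_iff_pow_eq_one, hm]
        exact (pow_dvd_pow 2 (by omega : m ≤ 1)).trans (by simp)
      have h4 : (c ^ 2 ^ (m - 2)) ^ 4 = 1 := by
        rw [← pow_mul, ← orderOf_dvd_iff_pow_eq_one, hm, show (4 : ℕ) = 2 ^ 2 by norm_num, ← pow_add]
        exact pow_dvd_pow 2 (by omega)
      have h2 := hno _ (pow_mem hc _) h4
      rw [← pow_add, ← orderOf_dvd_iff_pow_eq_one, hm, ← two_mul, ← pow_succ', Nat.pow_dvd_pow_iff_le_right (by norm_num)] at h2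
      omega
    have hcen : ∀ s ∈ S, ∀ c ∈ C, s * c = c * s := by
      intro s hs c hc
      by_cases hc1 : c = 1
      · rw [hc1, mul_one, one_mul]
      refine mul_inv_eq_iff_eq_mul.1 ?_
      by_contra hne'
      classical
      haveI := hCcyc
      haveI : Fintype C := Fintype.ofFinite C
      have h2 := IsCyclic.card_pow_eq_one_le (α := C) (n := 2) (by norm_num)
      have h3 : ({1, ⟨c, hc⟩, ⟨s * c * s⁻¹, hCnS s hs c hc⟩} : Finset C).card ≤ 2 :=
        (Finset.card_le_card fun x _ => Finset.mem_filter.2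
          ⟨Finset.mem_univ x, Subtype.ext (by rw [pow_two]; exact hall x x.2)⟩).trans h2
      rw [Finset.card_insert_of_notMem, Finset.card_insert_of_notMem, Finset.card_singleton] at h3
      · omega
      · simpa [Subtype.ext_iff] using Ne.symm hne'
      · simp only [Finset.mem_insert, Finset.mem_singleton, Subtype.ext_iff, coe_one, not_or]
        refine ⟨Ne.symm hc1, fun e1 => hc1 ?_⟩
        calc c = s⁻¹ * (s * c * s⁻¹) * s := by group
          _ = 1 := by rw [← e1, mul_one, inv_mul_cancel]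
    have hSC : S ≤ C := fun s hs => hself s hs (hcen s hs)
    have hP : IsPGroup 2 ↥(zpowers e ⊔ zpowers f) := by
      refine IsPGroup.to_sup_of_normal_right' (isPGroup_pow (k := 1) (by rw [pow_one, pow_two, hee]))
        (isPGroup_pow (k := 1) (by rw [pow_one, pow_two, hff])) (zpowers_le.2 ?_)
      exact centralizer_le_normalizer _ (mem_centralizer_iff.2 fun y hy => by
        obtain ⟨n, rfl⟩ := mem_zpowers_iff.1 hy
        exact ((Commute.zpow_right (show Commute e f from hef) n).symm).eq)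
    obtain ⟨a, -, ha⟩ := hS_max (zpowers e ⊔ zpowers f) (sup_le (zpowers_le.2 he) (zpowers_le.2 hf)) hP
    classical
    haveI := hCcyc
    haveI : Fintype C := Fintype.ofFinite C
    have h2 := IsCyclic.card_pow_eq_one_le (α := C) (n := 2) (by norm_num)
    have h3 : ({1, ⟨_, hSC (ha e (mem_sup_left (mem_zpowers e)))⟩,
        ⟨_, hSC (ha f (mem_sup_right (mem_zpowers f)))⟩} : Finset C).card ≤ 2 :=
      (Finset.card_le_card fun x _ => Finset.mem_filter.2
        ⟨Finset.mem_univ x, Subtype.ext (by rw [pow_two]; exact hall x x.2)⟩).trans h2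
    rw [Finset.card_insert_of_notMem, Finset.card_insert_of_notMem, Finset.card_singleton] at h3
    · omega
    · simpa [Subtype.ext_iff] using hne
    · simp only [Finset.mem_insert, Finset.mem_singleton, Subtype.ext_iff, coe_one, not_or]
      exact ⟨fun e1 => he1 (by simpa [mul_inv_eq_one, mul_eq_left] using e1.symm),
        fun e1 => hf1 (by simpa [mul_inv_eq_one, mul_eq_left] using e1.symm)⟩
  exact Conf.absurd_rank ⟨h, inf_le_left, hSp, hS_max, hSU, hCS, hCcyc, hCnS, hCnU, hself, hiC, hi4, hi2⟩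
    he hf hee hff he1 hf1 hne hef

end Cfsg.Agent.FourAct
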